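import Groth.Agent.H19.Canon.StarHull
import Groth.Agent.Lib.LCFin.Gorenstein
import Groth.Agent.Lib.LocalCoh.Torsion
import Groth.Agent.H19.Canon.OverField

/-!
# Injective objects of the graded category, localised at the maximal homogeneous ideal
-/

set_option autoImplicit false
set_option linter.style.haveILetI false
set_option linter.unusedSectionVars false

universe u

open CategoryTheory IsLocalRing
open Groth.Agent.Lib Groth.Agent.Lib.Graded Groth.Agent.H19

namespace Groth.Agent.H84.GrLC.InjLocal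

section Local

variable {A : Type u} [CommRing A] [IsLocalRing A] [IsNoetherianRing A]

/-- A torsion module without `Ext¹` out of the residue field is injective. -/
theorem injective_of_ext_one (W : Type u) [AddCommGroup W] [Module A W]
    (htor : LocCoh.IsPowerTorsion (maximalIdeal A) W)
    (hext : Subsingleton (Abelian.Ext.{u} (ModuleCat.of A (ResidueField A)) (ModuleCat.of A W) 1)) :
    Module.Injective A W := by
  obtain ⟨E, _, _, g, hg⟩ := InjHull.Basic.exists_hull (R := A) W
  have : Module.Injective A E := hg.isInjective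
  -- the hull is torsion
  have hgT : ∀ w, g w ∈ DRing.torsionSub (maximalIdeal A) E := fun w ↦ by
    obtain ⟨n, hn⟩ := htor w
    exact ⟨n, fun a ha ↦ by rw [← map_smul, hn a ha, map_zero]⟩
  obtain ⟨r, hr⟩ := LCFin.Gorenstein.exists_retraction
    (f := (DRing.torsionSub (maximalIdeal A) E).subtype) Subtype.val_injective
    (LocalCoh.injective_torsionSub (maximalIdeal A) E)
  have hEtor : ∀ x : E, ∃ n : ℕ, ∀ a ∈ maximalIdeal A ^ n, a • x = 0 := by
    intro x
    have hker : LinearMap.ker r = ⊥ := by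
      by_contra hne
      refine hg.essential _ hne ((Submodule.eq_bot_iff _).2 ?_)
      rintro _ ⟨hz, w, rfl⟩
      have h1 : r ((DRing.torsionSub (maximalIdeal A) E).subtype ⟨g w, hgT w⟩) = ⟨g w, hgT w⟩ :=
        LinearMap.congr_fun hr _
      have h2 : r (g w) = 0 := hz
      rw [Submodule.subtype_apply, h2] at h1
      exact (congrArg Subtype.val h1).symm
    obtain ⟨n, hn⟩ := (r x).2
    refine ⟨n, fun a ha ↦ LinearMap.ker_eq_bot.1 hker ?_⟩
    rw [map_smul, map_zero]
    exact Subtype.ext (hn a ha)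
  let π : E →ₗ[A] E ⧸ LinearMap.range g := (LinearMap.range g).mkQ
  have hS := LCFin.Seq.ses_shortExact hg.injective (Submodule.mkQ_surjective _)
    (LinearMap.exact_map_mkQ_range g)
  have hsocle : ∀ x ∈ LocCoh.torsionBy (maximalIdeal A) E, x ∈ LinearMap.range g := by
    intro x hx
    rcases eq_or_ne x 0 with rfl | h0
    · exact zero_mem _
    obtain ⟨z, ⟨hz1, hz2⟩, hz0⟩ := (Submodule.ne_bot_iff _).1
      (hg.essential (Submodule.span A {x}) (by simpa using h0))
    obtain ⟨c, rfl⟩ := Submodule.mem_span_singleton.1 hz1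
    by_cases hc : c ∈ maximalIdeal A
    · exact absurd ((Submodule.mem_torsionBySet_iff _ _).1 hx ⟨c, hc⟩) hz0
    · obtain ⟨u, rfl⟩ := (IsLocalRing.notMem_maximalIdeal).1 hc
      have := (LinearMap.range g).smul_mem (↑u⁻¹ : A) hz2
      rwa [smul_smul, u.inv_mul, one_smul] at this
  have hQtor : LocCoh.IsPowerTorsion (maximalIdeal A) (E ⧸ LinearMap.range g) := fun x ↦ by
    obtain ⟨y, rfl⟩ := (LinearMap.range g).mkQ_surjective x
    obtain ⟨n, hn⟩ := hEtor y
    exact ⟨n, fun a ha ↦ by rw [← map_smul, hn a ha, map_zero]⟩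
  have hQsoc : ∀ x ∈ LocCoh.torsionBy (maximalIdeal A) (E ⧸ LinearMap.range g), x = 0 := by
    intro x hx
    let ψ : ResidueField A →ₗ[A] E ⧸ LinearMap.range g :=
      (InjHull.BaseChange.homQuotientEquiv (maximalIdeal A) _).symm ⟨x, hx⟩
    obtain ⟨χ, hχ⟩ := Abelian.Ext.covariant_sequence_exact₃ (ModuleCat.of A (ResidueField A)) hS
      (Abelian.Ext.mk₀ (ModuleCat.ofHom ψ)) rfl (hext.elim _ _)
    let χ' : ResidueField A →ₗ[A] E := LCFin.ExtLoc.homEquiv _ _ χ
    have hψ : π.comp χ' = ψ := by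
      obtain ⟨χ₀, rfl⟩ := Abelian.Ext.homEquiv₀.symm.surjective χ
      rw [Abelian.Ext.homEquiv₀_symm_apply, Abelian.Ext.mk₀_comp_mk₀] at hχ
      have := congrArg ModuleCat.Hom.hom ((Abelian.Ext.mk₀_bijective _ _).1 hχ)
      exact (show π.comp χ₀.hom = ψ from this) ▸
        congrArg π.comp (show χ' = χ₀.hom from congrArg ModuleCat.Hom.hom
          (Abelian.Ext.homEquiv₀.apply_symm_apply χ₀))
    have h1 : χ' (residue A 1) ∈ LocCoh.torsionBy (maximalIdeal A) E :=
      (InjHull.BaseChange.homQuotientEquiv (maximalIdeal A) E χ').2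
    obtain ⟨w, hw⟩ := hsocle _ h1
    have hx' : x = ψ (residue A 1) := congrArg Subtype.val
      ((InjHull.BaseChange.homQuotientEquiv (maximalIdeal A) _).apply_symm_apply ⟨x, hx⟩).symm
    rw [hx', ← hψ, LinearMap.comp_apply, ← hw]
    exact (Submodule.Quotient.mk_eq_zero _).2 ⟨w, rfl⟩
  have hsurj : Function.Surjective g := fun y ↦ by
    by_contra hy
    obtain ⟨c, hc0, hc⟩ := InjHull.Artinian.exists_smul_mem_torsionBy hQtor
      (show π y ≠ 0 from fun h ↦ hy ((Submodule.Quotient.mk_eq_zero _).1 h))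
    exact hc0 (hQsoc _ hc)
  exact InjHull.Basic.injective_of_equiv (LinearEquiv.ofBijective g ⟨hg.injective, hsurj⟩).symm
    hg.isInjective

end Local

section Graded

variable {R : Type u} [CommRing R] [IsNoetherianRing R] {𝒜 : ℤ → AddSubgroup R} [GradedRing 𝒜]
  {m : HomogeneousIdeal 𝒜} [m.toIdeal.IsPrime]

/-- A Cohen–Macaulay *local ring with *injective top local cohomology is Gorenstein at the maximal
homogeneous ideal. -/
theorem isGorensteinLocalRing [LocCoh.IsCohenMacaulayLocalRing (Localization.AtPrime m.toIdeal)]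
    {n : ℕ} (hn : m.toIdeal.height = n) (I : GrLC.StarInjRes 𝒜 𝒜) (X : GrLC.GMod.{u} 𝒜)
    (φ : I.H m n ≃ₗ[R] X.carrier) (hX : GrLC.IsStarInj 𝒜 X.gr) :
    LocCoh.IsGorensteinLocalRing (Localization.AtPrime m.toIdeal) := by
  let A := Localization.AtPrime m.toIdeal
  let S := m.toIdeal.primeCompl
  have hdim : ringKrullDim A = n := by
    rw [IsLocalization.AtPrime.ringKrullDim_eq_height m.toIdeal A, hn]
    rfl
  refine LCFin.Gorenstein.isGorensteinLocalRing_of_H n A (fun i hi ↦ ?_) ?_
  · rcases lt_or_gt_of_ne hi with h | h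
    · exact LCFin.Gorenstein.subsingleton_H_of_lt hdim h
    · exact LocalCoh.lc_subsingleton_of_supportDim_lt i A _ _ (by
        rw [Module.supportDim_self_eq_ringKrullDim, hdim]
        exact_mod_cast h)
  let ψ : LocCoh.H m.toIdeal n R ≃ₗ[R] X.carrier := (LocCohCompare.equiv I m n).symm.trans φ
  obtain ⟨e1⟩ := LocalCoh.nonempty_lc_localizedModule_equiv m.toIdeal S R n
  let eR : LocalizedModule S R ≃ₗ[A] A :=
    (IsLocalizedModule.iso S (Algebra.linearMap R A)).extendScalarsOfIsLocalization S A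
  let e2 : LocalizedModule S (LocCoh.H m.toIdeal n R) ≃ₗ[A] LocalizedModule S X.carrier :=
    LinearEquiv.ofBijective (LocalizedModule.map S ψ.toLinearMap)
      ⟨LocalizedModule.map_injective S _ ψ.injective, LocalizedModule.map_surjective S _ ψ.surjective⟩
  have h := e2.symm.trans e1
  rw [Localization.AtPrime.map_eq_maximalIdeal] at h
  let e : LocalizedModule S X.carrier ≃ₗ[A] LocCoh.H (maximalIdeal A) n A :=
    h.trans (LocalCoh.lcLinearEquiv (maximalIdeal A) n eR)
  refine InjHull.Basic.injective_of_equiv e ?_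
  refine injective_of_ext_one _ (fun x ↦ ?_) (Bass.Local.ext_subsingleton_localized m.toIdeal _ 1 ?_)
  · obtain ⟨k, hk⟩ := LocalCoh.isPowerTorsion_lc (maximalIdeal A) n (ModuleCat.of A A) (e x)
    exact ⟨k, fun a ha ↦ e.injective (by rw [map_smul, hk a ha, map_zero])⟩
  · letI := HullPrime.quotDecomp m
    haveI := HullPrime.quotGSMul m
    exact ExtStarInj.ext_subsingleton X hX 0
      (GrLC.GMod.of 𝒜 (R ⧸ m.toIdeal) (GrLC.quotGr 𝒜 m))
      (inferInstanceAs (Module.Finite R (R ⧸ m.toIdeal)))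

open Groth.Agent.H19.Canon.OverField in
/-- Gorenstein at the maximal homogeneous ideal of a *local ring means Gorenstein everywhere. -/
theorem isGorensteinRing (hm : GrLC.IsStarLocal 𝒜 m)
    [LocCoh.IsGorensteinLocalRing (Localization.AtPrime m.toIdeal)] : LocCoh.IsGorensteinRing R := by
  obtain ⟨N, hN⟩ := LocCoh.IsGorensteinLocalRing.exists_hasInjectiveDimensionLT
    (A := Localization.AtPrime m.toIdeal)
  have eR : ∀ (P : Ideal R) [P.IsPrime],
      LocalizedModule P.primeCompl R ≃ₗ[Localization.AtPrime P] Localization.AtPrime P := fun P _ ↦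
    (IsLocalizedModule.iso P.primeCompl (Algebra.linearMap R
      (Localization.AtPrime P))).extendScalarsOfIsLocalization P.primeCompl _
  refine { isGorensteinLocalRing_localization := fun P _ ↦ ?_ }
  let q := Ideal.homogeneousCore 𝒜 P
  have hq : q.toIdeal.IsPrime := Ass.isPrime_core 𝒜 ‹P.IsPrime›
  have hqm : q.toIdeal ≤ m.toIdeal := Bass.Gorenstein.le_of_ne_top hm q.isHomogeneous hq.ne_top
  have hqz : ∀ i, N ≤ i → GrLC.bassNum q.toIdeal R i = 0 := by
    intro i hi
    refine Module.length_eq_zero_iff.2 ?_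
    obtain ⟨em⟩ := LCFin.ExtLoc.nonempty_equiv m.toIdeal.primeCompl R i (R ⧸ q.toIdeal)
    obtain ⟨eq⟩ := LCFin.ExtLoc.nonempty_equiv q.toIdeal.primeCompl R i (R ⧸ q.toIdeal)
    obtain ⟨d⟩ := Bass.Rel.nonempty_quotient_equiv q.toIdeal q.toIdeal
    refine subsingleton_ext_congr_left (d.trans
      (Submodule.quotEquivOfEq _ _ Localization.AtPrime.map_eq_maximalIdeal)) i
      (subsingleton_of_forall_eq 0 fun z ↦ ?_)
    obtain ⟨w, rfl⟩ := eq.surjective z
    induction w using LocalizedModule.induction_on with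
    | h x s =>
      haveI : HasInjectiveDimensionLT (ModuleCat.of (Localization.AtPrime m.toIdeal)
          (LocalizedModule m.toIdeal.primeCompl R)) N :=
        hasInjectiveDimensionLT_of_iso (eR m.toIdeal).symm.toModuleIso N
      have := HasInjectiveDimensionLT.subsingleton (ModuleCat.of (Localization.AtPrime m.toIdeal)
        (LocalizedModule m.toIdeal.primeCompl R)) N i hi
        (ModuleCat.of (Localization.AtPrime m.toIdeal)
          (LocalizedModule m.toIdeal.primeCompl (R ⧸ q.toIdeal)))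
      obtain ⟨⟨u, hu⟩, hu'⟩ := (Bass.Local.mk_eq_zero _ x 1).1
        (em.injective (Subsingleton.elim (em (LocalizedModule.mk x 1)) (em 0)))
      rw [show LocalizedModule.mk x s = 0 from (Bass.Local.mk_eq_zero _ _ _).2
        ⟨⟨u, fun h ↦ hu (hqm h)⟩, hu'⟩, map_zero]
  have hp : (P.map (Ideal.Quotient.mk q.toIdeal)).IsPrime :=
    Ideal.map_isPrime_of_surjective Ideal.Quotient.mk_surjective
      (by rw [Ideal.mk_ker]; exact Ideal.toIdeal_homogeneousCore_le 𝒜 P)
  obtain ⟨d, hd⟩ := ENat.ne_top_iff_exists.1 (Ideal.height_ne_top hp.ne_top)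
  rw [Goren.Basic.isGorensteinLocalRing_iff_ext]
  refine ⟨N + d, fun j hj ↦ ?_⟩
  obtain ⟨i, rfl⟩ := Nat.exists_eq_add_of_le' (show d ≤ j by omega)
  have h := ((Bass.Core.bassNum_eq (𝒜 := 𝒜) 𝒜 P d hd.symm).2 i).trans (hqz i (by omega))
  exact Module.length_eq_zero_iff.1
    ((Bass.Main.length_ext_congr _ (eR P).symm (i + d)).trans h)

end Graded

end Groth.Agent.H84.GrLC.InjLocal
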