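import Groth.Agent.Lib.Graded.SigmaChange
import Groth.Agent.Lib.Graded.Hilbert
import Groth.Agent.Lib.Graded.FieldDeg0
import Groth.Agent.Lib.Goren.Rings
import Groth.Agent.S0341
import Mathlib.RingTheory.KrullDimension.Polynomial

/-!
# The standard graded polynomial ring with pieces additive subgroups
-/

set_option autoImplicit false
set_option linter.style.haveILetI false
set_option linter.unusedSectionVars false

universe u

open MvPolynomial
open Groth.Agent.Lib.Graded Groth.Agent.Lib.Graded.Basic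

namespace Groth.Agent.H84.GrLC.PolyRing

variable (k : Type u) [Field k] (N : ℕ)

/-- The grading. -/
noncomputable abbrev gr : ℤ → AddSubgroup (MvPolynomial (Fin N) k) := SigmaChange.pieces (GrSyz.stdGr k (Fin N))

theorem pos : ∀ n : ℤ, n < 0 → gr k N n = ⊥ := fun n hn =>
  (AddSubgroup.eq_bot_iff_forall _).2 fun p hp => Poly.eq_zero_of_neg n hn p hp

theorem eq_C {p : MvPolynomial (Fin N) k} (hp : p ∈ gr k N 0) : p = C (constantCoeff p) := by
  refine MvPolynomial.ext _ _ fun e => ?_
  rw [coeff_C]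
  split_ifs with he
  · subst he; rfl
  · by_contra hne
    have := Poly.degree_eq_of_mem hp (mem_support_iff.2 hne)
    exact he ((Finsupp.degree_eq_zero_iff e).1 (by exact_mod_cast this)).symm

/-- The field of constants. -/
noncomputable def deg0Equiv : k ≃+* GrLC.deg0 (gr k N) :=
  RingEquiv.ofBijective (show k →+* GrLC.deg0 (gr k N) from
    { toFun := fun c => ⟨C c, Poly.C_mem c⟩
      map_one' := Subtype.ext (map_one C)
      map_mul' := fun a b => Subtype.ext (map_mul C a b)
      map_zero' := Subtype.ext (map_zero C)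
      map_add' := fun a b => Subtype.ext (map_add C a b) })
    ⟨fun a b h => C_injective _ _ (congrArg Subtype.val h),
      fun x => ⟨constantCoeff x.1, Subtype.ext (eq_C k N x.2).symm⟩⟩

theorem coe_deg0Equiv (c : k) : ((deg0Equiv k N c : GrLC.deg0 (gr k N)) : MvPolynomial (Fin N) k) = C c :=
  rfl

theorem isField : IsField (GrLC.deg0 (gr k N)) :=
  MulEquiv.isField (Field.toIsField k) (deg0Equiv k N).symm.toMulEquiv

/-- The maximal homogeneous ideal. -/
noncomputable def irr : HomogeneousIdeal (gr k N) :=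
  ⟨Ideal.span (⋃ n ∈ Set.Ioi (0 : ℤ), (gr k N n : Set (MvPolynomial (Fin N) k))),
    Ideal.homogeneous_span _ _ fun x hx => by
      obtain ⟨n, -, hn⟩ := Set.mem_iUnion₂.1 hx
      exact ⟨n, hn⟩⟩

theorem irr_eq : (irr k N).toIdeal =
    Ideal.span (⋃ n ∈ Set.Ioi (0 : ℤ), (gr k N n : Set (MvPolynomial (Fin N) k))) := rfl

theorem isStarLocal : GrLC.IsStarLocal (gr k N) (irr k N) := by
  have hmax := FieldDeg0.isMaximal (pos k N) (isField k N) (irr_eq k N)
  refine ⟨⟨fun hc ↦ hmax.ne_top (congrArg HomogeneousIdeal.toIdeal hc), fun K hK ↦ ?_⟩, fun K hK ↦ ?_⟩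
  · by_contra hne
    exact hK.not_ge (FieldDeg0.le_of_ne_top (pos k N) (isField k N) (irr_eq k N) K fun hc ↦
      hne (HomogeneousIdeal.ext hc))
  · have hle : K ≤ irr k N := FieldDeg0.le_of_ne_top (pos k N) (isField k N) (irr_eq k N) K fun hc ↦
      hK.1 (HomogeneousIdeal.ext hc)
    rcases hle.eq_or_lt with heq | hlt
    · exact heq
    · exact absurd (hK.2 _ hlt) fun hc ↦ hmax.ne_top (congrArg HomogeneousIdeal.toIdeal hc)

theorem standard : Ideal.span (⋃ n ∈ Set.Ioi (0 : ℤ), (gr k N n : Set (MvPolynomial (Fin N) k))) =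
    Ideal.span ((gr k N 1 : AddSubgroup (MvPolynomial (Fin N) k)) : Set (MvPolynomial (Fin N) k)) := by
  refine le_antisymm (Ideal.span_le.2 fun p hp => ?_) (Ideal.span_mono fun p hp =>
    Set.mem_iUnion₂.2 ⟨1, Set.mem_Ioi.2 one_pos, hp⟩)
  obtain ⟨n, hn, hp⟩ := Set.mem_iUnion₂.1 hp
  have h : p ∈ (GrSyz.irrel (GrSyz.stdGr k (Fin N))).toIdeal := Ideal.subset_span ⟨n, hn, hp⟩
  rw [Poly.irrel_eq_vars] at h
  exact Ideal.span_le.2 (by rintro _ ⟨i, -, rfl⟩; exact Ideal.subset_span (Poly.X_mem i)) h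

theorem gorenstein : LocCoh.IsGorensteinRing (MvPolynomial (Fin N) k) :=
  Groth.Agent.Lib.Goren.Rings.isGorensteinRing_of_isRegularRing _

theorem cohenMacaulay : LocCoh.IsCohenMacaulayRing (MvPolynomial (Fin N) k) := ⟨fun p _ =>
  haveI := (gorenstein k N).isGorensteinLocalRing_localization p
  Groth.Agent.S0341.result (Localization.AtPrime p)⟩

theorem dim : ringKrullDim (MvPolynomial (Fin N) k) = (N : WithBot ℕ∞) := by
  rw [MvPolynomial.ringKrullDim_of_isNoetherianRing, ringKrullDim_eq_zero_of_field, zero_add]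
  simp

theorem nonempty_ringEquiv :
    Nonempty (MvPolynomial (Fin N) k ≃+* MvPolynomial (Fin N) (GrLC.deg0 (gr k N))) :=
  ⟨MvPolynomial.mapEquiv (Fin N) (deg0Equiv k N)⟩

theorem finrank_comp (t n : ℕ) :
    Module.finrank (GrLC.deg0 (gr k (t + 1))) (GrLC.comp (gr k (t + 1)) (gr k (t + 1)) (n : ℤ)) =
      Nat.choose (t + n) t := by
  have h := (Hilbert.finite_stdGr (k := k) (r := t) (n : ℤ)).2
  rw [Hilbert.hS, if_pos (by omega), Int.toNat_natCast] at h
  rw [← h]
  let j : GrSyz.stdGr k (Fin (t + 1)) (n : ℤ) ≃+ GrLC.comp (gr k (t + 1)) (gr k (t + 1)) (n : ℤ) :=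
    { toFun := fun x => ⟨x.1, x.2⟩, invFun := fun x => ⟨x.1, x.2⟩
      left_inv := fun _ => rfl, right_inv := fun _ => rfl, map_add' := fun _ _ => rfl }
  have hr := rank_eq_of_equiv_equiv (deg0Equiv k (t + 1)) j (deg0Equiv k (t + 1)).bijective
    (fun r m => Subtype.ext (by
      show r • m.1 = (C r : MvPolynomial (Fin (t + 1)) k) * m.1
      rw [smul_eq_C_mul]))
  rw [Module.finrank, Module.finrank, hr]

section Veronese

variable {k N} {R' : Type u} [CommRing R'] (φ : R' →+* MvPolynomial (Fin N) k)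
  (d : ℕ) (hd : 0 < d) (hφ : Function.Injective φ)
  (hrange : ∀ p : MvPolynomial (Fin N) k, p ∈ φ.range ↔
      ∀ j : ℕ, ¬ d ∣ j → MvPolynomial.homogeneousComponent j p = 0)

/-- The grading of the Veronese subring. -/
noncomputable def vgr (j : ℤ) : AddSubgroup R' := (gr k N (j * d)).comap φ.toAddMonoidHom

include hrange in
theorem mem_range {p : MvPolynomial (Fin N) k} {j : ℤ} (hp : p ∈ gr k N (j * d)) : p ∈ φ.range := by
  refine (hrange p).2 fun i hi => MvPolynomial.ext _ _ fun e => ?_
  rw [coeff_homogeneousComponent, coeff_zero]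
  split_ifs with he
  · by_contra hne
    have h := Poly.degree_eq_of_mem hp (mem_support_iff.2 hne)
    rw [he] at h
    refine hi (Int.natCast_dvd_natCast.1 ?_)
    rw [h]; exact dvd_mul_left _ _
  · rfl

include hrange in
theorem proj_eq_zero (x : R') {g : ℤ} (hg : ¬ (d : ℤ) ∣ g) : proj (gr k N) g (φ x) = 0 := by
  have hmem := proj_mem (gr k N) g (φ x)
  refine MvPolynomial.ext _ _ fun e => ?_
  rw [coeff_zero]
  by_contra hne
  have hdeg := Poly.degree_eq_of_mem hmem (mem_support_iff.2 hne)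
  have h0 : coeff e (φ x) = 0 := by
    have := (hrange (φ x)).1 ⟨x, rfl⟩ e.degree (fun h => hg (by rw [← hdeg]; exact_mod_cast h))
    simpa [coeff_homogeneousComponent] using congrArg (coeff e) this
  refine hne ?_
  have hsum := congrArg (coeff e) (sum_proj (gr k N) (φ x))
  rw [coeff_sum, h0] at hsum
  by_cases hs : g ∈ supp (gr k N) (φ x)
  · rw [Finset.sum_eq_single g ?_ (fun h => absurd hs h)] at hsum
    · exact hsum
    · intro i _ hi
      by_contra hc
      exact hi ((Poly.degree_eq_of_mem (proj_mem (gr k N) i (φ x)) (mem_support_iff.2 hc)).symm.trans hdeg)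
  · rw [show proj (gr k N) g (φ x) = 0 from not_not.1 fun hne => hs ((mem_supp _).2 hne), coeff_zero]

include hd hφ hrange in
theorem exists_grading : ∃ _ : GradedRing (vgr φ d),
    ∀ j : ℤ, (vgr φ d j).map (φ : R' →+ MvPolynomial (Fin N) k) = gr k N (j * d) := by
  classical
  have hdz : (d : ℤ) ≠ 0 := by exact_mod_cast hd.ne'
  have hpre : ∀ (j : ℤ) (x : R'), ∃ y : R', φ y = proj (gr k N) (j * d) (φ x) := fun j x =>
    RingHom.mem_range.1 (mem_range φ d hrange (proj_mem (gr k N) (j * d) (φ x)))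
  choose f hf using hpre
  let π : ℤ → R' →+ R' := fun j =>
    { toFun := f j
      map_zero' := hφ (by rw [hf, map_zero, map_zero])
      map_add' := fun a b => hφ (by rw [hf, map_add, map_add, map_add, hf, hf]) }
  have hmem : ∀ (j : ℤ) (x : R'), f j x ∈ vgr φ d j := fun j x => by
    show φ (f j x) ∈ gr k N (j * d)
    rw [hf]
    exact proj_mem _ _ _
  refine ⟨{ decompositionOfProj (vgr φ d) π
        (fun g x hx => hφ ((hf g x).trans (proj_of_mem (gr k N) hx)))
        (fun g h hne x hx => hφ ((hf g x).trans ((proj_of_mem_ne (gr k N) hx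
          (fun hc : h * (d : ℤ) = g * (d : ℤ) => hne (mul_right_cancel₀ hdz hc))).trans
            (map_zero φ).symm)))
        (fun x => ?_) with
      one_mem := ?_
      mul_mem := ?_ }, fun j => le_antisymm ?_ ?_⟩
  · have hx : x = ∑ g ∈ (supp (gr k N) (φ x)), if (d : ℤ) ∣ g then f (g / d) x else 0 := by
      refine hφ ?_
      rw [map_sum]
      conv_lhs => rw [← sum_proj (gr k N) (φ x)]
      refine Finset.sum_congr rfl fun g _ => ?_
      split_ifs with hg
      · rw [hf, Int.ediv_mul_cancel hg]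
      · rw [map_zero, proj_eq_zero φ d hrange x hg]
    rw [hx]
    refine sum_mem fun g _ => ?_
    split_ifs
    · exact StarInj.mem_coe_range (N := vgr φ d) _ (hmem _ _)
    · exact zero_mem _
  · show φ 1 ∈ gr k N (0 * d)
    rw [map_one, zero_mul]
    exact SetLike.one_mem_graded _
  · intro i j a b ha hb
    show φ (a * b) ∈ gr k N ((i + j) * d)
    rw [map_mul, add_mul]
    exact SetLike.mul_mem_graded ha hb
  · rintro _ ⟨a, ha, rfl⟩
    exact ha
  · intro p hp
    obtain ⟨a, rfl⟩ := RingHom.mem_range.1 (mem_range φ d hrange hp)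
    exact ⟨a, hp, rfl⟩

end Veronese

end Groth.Agent.H84.GrLC.PolyRing
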